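import Groth.Agent.GenSmooth5.Basic
import Groth.Agent.SmoothReg.Scheme
import Groth.Agent.H23.RedSub
import Groth.Agent.Lib.CurveSection
import Groth.Prelude.Def_FixPt
import Mathlib.RingTheory.Ideal.KrullsHeightTheorem

/-!
# The cotangent map of a generically smooth morphism and the dimension of images
-/

set_option autoImplicit false
set_option linter.style.haveILetI false
set_option backward.isDefEq.respectTransparency false
set_option backward.isDefEq.respectTransparency.types false
set_option synthInstance.maxHeartbeats 400000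

universe u

open CategoryTheory CategoryTheory.Limits AlgebraicGeometry TopologicalSpace Opposite

namespace Groth.Agent.TangentRank5

open IsLocalRing in
/-- A formally smooth map of local `k`-algebras with residue field `k` is injective on cotangent spaces; so a bound
on the span of the image bounds the dimension. -/
theorem ringKrullDim_le_of_formallySmooth {k R S : Type u} [Field k] [CommRing R] [IsLocalRing R]
    [IsNoetherianRing R] [CommRing S] [IsLocalRing S] [Algebra k R] [Algebra k S] [Algebra R S]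
    [IsScalarTower k R S] [IsLocalHom (algebraMap R S)] [Algebra.FormallySmooth R S]
    (hR : ∀ a : R, ∃ c : k, a - algebraMap k R c ∈ maximalIdeal R)
    (hS : ∀ a : S, ∃ c : k, a - algebraMap k S c ∈ maximalIdeal S)
    (T : Finset (CotangentSpace S)) (r : ℕ) (hT : T.card ≤ r)
    (h : ∀ (m : R) (hm : m ∈ maximalIdeal R), Ideal.toCotangent _ (⟨algebraMap R S m, map_nonunit (algebraMap R S) m hm⟩ :
      maximalIdeal S) ∈ Submodule.span k (T : Set (CotangentSpace S))) :
    ringKrullDim R ≤ r := by
  choose cR hcR using hR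
  choose cS hcS using hS
  have huR : ∀ c c' : k, algebraMap k R c - algebraMap k R c' ∈ maximalIdeal R → c = c' := fun c c' h => by
    by_contra hne
    rw [← map_sub] at h
    exact h ((Ne.isUnit (sub_ne_zero.2 hne)).map _)
  have hbijR : Function.Bijective (algebraMap k (ResidueField R)) :=
    ⟨(algebraMap k (ResidueField R)).injective, fun y => by
      obtain ⟨s, rfl⟩ := residue_surjective y
      exact ⟨cR s, (Ideal.Quotient.eq.2 (hcR s)).symm⟩⟩
  have hbijS : Function.Bijective (algebraMap k (ResidueField S)) :=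
    ⟨(algebraMap k (ResidueField S)).injective, fun y => by
      obtain ⟨s, rfl⟩ := residue_surjective y
      exact ⟨cS s, (Ideal.Quotient.eq.2 (hcS s)).symm⟩⟩
  let J : Ideal R := maximalIdeal R ^ 2
  let I : Ideal (R ⧸ J) := (maximalIdeal R).map (Ideal.Quotient.mk J)
  have hI2 : I ^ 2 = ⊥ := by
    rw [← Ideal.map_pow, Ideal.map_quotient_self]
  let g₀ : S →+* (R ⧸ J) ⧸ I :=
    ((algebraMap R ((R ⧸ J) ⧸ I)).comp ((algebraMap k R).comp
      (RingEquiv.ofBijective _ hbijS).symm.toRingHom)).comp (residue S)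
  have hg₀ : ∀ (s : S) (c : k), s - algebraMap k S c ∈ maximalIdeal S →
      g₀ s = algebraMap R ((R ⧸ J) ⧸ I) (algebraMap k R c) := fun s c hsc => by
    have h1 : residue S s = algebraMap k (ResidueField S) c := Ideal.Quotient.eq.2 hsc
    simp only [g₀, RingHom.comp_apply, h1, RingEquiv.toRingHom_eq_coe, RingEquiv.coe_toRingHom]
    congr 2
    exact (RingEquiv.ofBijective _ hbijS).symm_apply_apply c
  let g : S →ₐ[R] (R ⧸ J) ⧸ I :=
    { g₀ with
      commutes' := fun a => by
        show g₀ (algebraMap R S a) = _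
        rw [hg₀ _ (cR a) (by
          rw [IsScalarTower.algebraMap_apply k R S, ← map_sub]
          exact map_nonunit _ _ (hcR a))]
        show Ideal.Quotient.mk I (Ideal.Quotient.mk J _) = Ideal.Quotient.mk I (Ideal.Quotient.mk J a)
        rw [Ideal.Quotient.eq, ← map_sub]
        refine Ideal.mem_map_of_mem _ ?_
        rw [← neg_sub]
        exact neg_mem (hcR a) }
  let σ := Algebra.FormallySmooth.lift I ⟨2, hI2⟩ g
  have hσ : ∀ s ∈ maximalIdeal S, σ s ∈ I := fun s hs => by
    rw [← Ideal.Quotient.eq_zero_iff_mem, Algebra.FormallySmooth.mk_lift]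
    show g₀ s = 0
    rw [hg₀ s 0 (by simpa using hs), map_zero, map_zero]
  have hinj : ∀ m ∈ maximalIdeal R, algebraMap R S m ∈ maximalIdeal S ^ 2 → m ∈ J := by
    intro m hm hmS
    rw [← Ideal.Quotient.eq_zero_iff_mem]
    have h1 : σ (algebraMap R S m) ∈ I ^ 2 := by
      have h2 : Ideal.map σ.toRingHom (maximalIdeal S ^ 2) ≤ I ^ 2 := by
        rw [Ideal.map_pow]
        exact Ideal.pow_right_mono (Ideal.map_le_iff_le_comap.2 hσ) 2
      exact h2 (Ideal.mem_map_of_mem _ hmS)
    rw [hI2, Ideal.mem_bot, σ.commutes] at h1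
    exact h1
  let N : Submodule k (CotangentSpace S) := Submodule.span k (T : Set (CotangentSpace S))
  let φ : maximalIdeal R →ₗ[k] CotangentSpace S :=
    { toFun := fun m => Ideal.toCotangent _ ⟨algebraMap R S m.1, map_nonunit _ _ m.2⟩
      map_add' := fun a b => by
        rw [← map_add]
        exact congrArg _ (Subtype.ext (map_add _ _ _))
      map_smul' := fun c a => by
        show Ideal.toCotangent _ (⟨algebraMap R S ((c • a : maximalIdeal R) : R), _⟩ : maximalIdeal S) =
          c • Ideal.toCotangent _ ⟨algebraMap R S a.1, _⟩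
        rw [← algebraMap_smul S c (Ideal.toCotangent (IsLocalRing.maximalIdeal S) _), ← map_smul]
        refine congrArg _ (Subtype.ext ?_)
        show algebraMap R S (c • (a : R)) = algebraMap k S c * algebraMap R S a
        rw [Algebra.smul_def, map_mul, ← IsScalarTower.algebraMap_apply] }
  let π : maximalIdeal R →ₗ[k] CotangentSpace R := ((maximalIdeal R).toCotangent).restrictScalars k
  have hker : LinearMap.ker π = LinearMap.ker φ := by
    ext m
    simp only [LinearMap.mem_ker]
    show Ideal.toCotangent _ m = 0 ↔ Ideal.toCotangent _ _ = 0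
    rw [Ideal.toCotangent_eq_zero, Ideal.toCotangent_eq_zero]
    refine ⟨fun hm => ?_, fun hm => hinj _ m.2 hm⟩
    have : (maximalIdeal R ^ 2).map (algebraMap R S) ≤ maximalIdeal S ^ 2 := by
      rw [Ideal.map_pow]
      exact Ideal.pow_right_mono (Ideal.map_le_iff_le_comap.2 fun x hx => map_nonunit _ _ hx) 2
    exact this (Ideal.mem_map_of_mem _ hm)
  have hran : LinearMap.range φ ≤ N := by
    rintro _ ⟨m, rfl⟩
    exact h m.1 m.2
  have hπ : LinearMap.range π = ⊤ := LinearMap.range_eq_top.2 (Ideal.toCotangent_surjective _)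
  haveI : Module.Finite k N := inferInstanceAs (Module.Finite k (Submodule.span k (T : Set (CotangentSpace S))))
  have hle : Module.finrank k (CotangentSpace R) ≤ r := by
    calc Module.finrank k (CotangentSpace R) = Module.finrank k (LinearMap.range π) :=
          (LinearEquiv.ofTop _ hπ).finrank_eq.symm
      _ = Module.finrank k (LinearMap.range φ) :=
          (π.quotKerEquivRange.symm.trans ((Submodule.quotEquivOfEq _ _ hker).trans φ.quotKerEquivRange)).finrank_eq
      _ ≤ Module.finrank k N := Submodule.finrank_mono hran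
      _ ≤ T.card := finrank_span_finset_le_card T
      _ ≤ r := hT
  haveI : IsScalarTower k (ResidueField R) (CotangentSpace R) := IsScalarTower.of_algebraMap_smul fun c w => by
    rw [IsScalarTower.algebraMap_apply k R (ResidueField R), algebraMap_smul, algebraMap_smul]
  have hk : Module.finrank k (CotangentSpace R) = Module.finrank (ResidueField R) (CotangentSpace R) := by
    rw [← Module.finrank_mul_finrank k (ResidueField R) (CotangentSpace R),
      show Module.finrank k (ResidueField R) = 1 from
        (LinearEquiv.ofBijective (Algebra.linearMap k (ResidueField R)) hbijR).finrank_eq.symm.trans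
          (Module.finrank_self k), one_mul]
  refine (ringKrullDim_le_spanFinrank_maximalIdeal _).trans ?_
  rw [IsLocalRing.spanFinrank_maximalIdeal_eq_finrank_cotangentSpace, ← hk]
  exact_mod_cast hle

theorem stalkMapAt_rfl {X Y : Scheme.{u}} (f : X ⟶ Y) (x : X) :
    FixPt.stalkMapAt f x (f x) rfl = (f.stalkMap x).hom := by
  unfold FixPt.stalkMapAt
  simp only [TopCat.Presheaf.stalkCongr_inv, TopCat.Presheaf.stalkSpecializes_refl, Category.id_comp]

variable {k : Type u} [Field k] {X Y : Scheme.{u}}
  [X.Over (Spec (CommRingCat.of k))] [Y.Over (Spec (CommRingCat.of k))]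

theorem stalkMap_const (f : X ⟶ Y) (hf : f ≫ (Y ↘ Spec (CommRingCat.of k)) = X ↘ Spec (CommRingCat.of k))
    (x : X) (c : k) : (f.stalkMap x).hom (Curv2.stalkMap k Y (f x) c) = Curv2.stalkMap k X x c := by
  show (f.stalkMap x).hom (Y.presheaf.germ ⊤ (f x) trivial _) = _
  rw [Scheme.Hom.germ_stalkMap_apply]
  refine congrArg (X.presheaf.germ ⊤ x trivial) ?_
  show ((Y ↘ Spec (CommRingCat.of k)).appTop ≫ f.appTop) _ = _
  rw [← Scheme.Hom.comp_appTop, hf]
  rfl

open IsLocalRing in
/-- The rank bound, pushed to a subscheme of the source. -/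
theorem push (f : X ⟶ Y) (hf : f ≫ (Y ↘ Spec (CommRingCat.of k)) = X ↘ Spec (CommRingCat.of k))
    {W : Scheme.{u}} (ι : W ⟶ X) (w : W) [Algebra k (W.presheaf.stalk w)]
    (halg : ∀ c, algebraMap k (W.presheaf.stalk w) c = (ι.stalkMap w).hom (Curv2.stalkMap k X (ι w) c))
    (hres : ∀ a : X.presheaf.stalk (ι w), ∃ c : k, a - Curv2.stalkMap k X (ι w) c ∈ maximalIdeal _)
    (T : Finset (CotangentSpace (X.presheaf.stalk (ι w))))
    (hT : (LinearMap.range (FixPt.cotangentMapAt f (ι w) (f (ι w)) rfl) : Set (CotangentSpace (X.presheaf.stalk (ι w)))) ⊆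
      (Submodule.span (ResidueField (X.presheaf.stalk (ι w))) (T : Set (CotangentSpace (X.presheaf.stalk (ι w)))) :
        Set (CotangentSpace (X.presheaf.stalk (ι w))))) :
    ∃ T' : Finset (CotangentSpace (W.presheaf.stalk w)), T'.card ≤ T.card ∧
      ∀ (h' : W ⟶ Y), h' = ι ≫ f → (∀ c, (h'.stalkMap w).hom (Curv2.stalkMap k Y (h' w) c) = algebraMap k _ c) ∧
        ∀ a ∈ maximalIdeal (Y.presheaf.stalk (h' w)),
          ∀ hm : (h'.stalkMap w).hom a ∈ maximalIdeal (W.presheaf.stalk w),
          Ideal.toCotangent _ ⟨(h'.stalkMap w).hom a, hm⟩ ∈ Submodule.span k (T' : Set (CotangentSpace (W.presheaf.stalk w))) := by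
  classical
  let π := (ι.stalkMap w).hom
  choose cst hcst using hres
  choose lft hlft using fun v : CotangentSpace (X.presheaf.stalk (ι w)) => Ideal.toCotangent_surjective _ v
  let π' : CotangentSpace (X.presheaf.stalk (ι w)) → CotangentSpace (W.presheaf.stalk w) :=
    fun v => Ideal.toCotangent _ ⟨π (lft v), map_nonunit π _ (lft v).2⟩
  have hπ' : ∀ m : maximalIdeal (X.presheaf.stalk (ι w)),
      π' (Ideal.toCotangent _ m) = Ideal.toCotangent _ ⟨π m, map_nonunit π _ m.2⟩ := fun m => by
    rw [Ideal.toCotangent_eq]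
    have h1 := (Ideal.toCotangent_eq _).1 (hlft (Ideal.toCotangent _ m))
    have h2 : (maximalIdeal _ ^ 2).map π ≤ maximalIdeal (W.presheaf.stalk w) ^ 2 := by
      rw [Ideal.map_pow]
      exact Ideal.pow_right_mono (show Ideal.map π (maximalIdeal _) ≤ maximalIdeal _ from
        Ideal.map_le_iff_le_comap.2 fun x hx => map_nonunit π x hx) 2
    show π _ - π m.1 ∈ _
    rw [← map_sub]
    exact h2 (Ideal.mem_map_of_mem _ h1)
  refine ⟨T.image π', Finset.card_image_le, fun h' e => ?_⟩
  subst e
  refine ⟨fun c => ?_, fun a ha hm => ?_⟩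
  · rw [halg, Scheme.Hom.stalkMap_comp]
    exact congrArg π (stalkMap_const f hf (ι w) c)
  · have ha' : (f.stalkMap (ι w)).hom a ∈ maximalIdeal _ := map_nonunit _ _ ha
    have key : π' (Ideal.toCotangent _ ⟨(f.stalkMap (ι w)).hom a, ha'⟩) =
        Ideal.toCotangent _ ⟨((ι ≫ f).stalkMap w).hom a, hm⟩ := by
      rw [hπ']
      refine congrArg _ (Subtype.ext ?_)
      exact (DFunLike.congr_fun (congrArg CommRingCat.Hom.hom (Scheme.Hom.stalkMap_comp ι f w)) a).symm
    rw [← key, Finset.coe_image]
    have hmem : Ideal.toCotangent _ ⟨(f.stalkMap (ι w)).hom a, ha'⟩ ∈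
        Submodule.span (ResidueField (X.presheaf.stalk (ι w))) (T : Set (CotangentSpace (X.presheaf.stalk (ι w)))) := by
      refine hT ⟨Ideal.toCotangent _ ⟨a, ha⟩, ?_⟩
      unfold FixPt.cotangentMapAt
      rw [Ideal.mapCotangent_toCotangent]
      refine congrArg _ (Subtype.ext ?_)
      show FixPt.stalkMapAt f (ι w) (f (ι w)) rfl a = _
      rw [stalkMapAt_rfl]
    revert hmem
    generalize Ideal.toCotangent _ (⟨(f.stalkMap (ι w)).hom a, ha'⟩ : maximalIdeal (X.presheaf.stalk (ι w))) = v
    intro hmem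
    induction hmem using Submodule.span_induction with
    | mem x hx => exact Submodule.subset_span ⟨x, hx, rfl⟩
    | zero =>
      rw [← map_zero (Ideal.toCotangent (maximalIdeal (X.presheaf.stalk (ι w)))), hπ']
      convert Submodule.zero_mem _
      rw [Ideal.toCotangent_eq_zero]
      simp
    | add x y _ _ hx hy =>
      obtain ⟨p, rfl⟩ := Ideal.toCotangent_surjective _ x
      obtain ⟨q, rfl⟩ := Ideal.toCotangent_surjective _ y
      rw [← map_add, hπ']
      rw [hπ'] at hx hy
      convert Submodule.add_mem _ hx hy using 1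
      rw [← map_add]
      exact congrArg _ (Subtype.ext (map_add π _ _))
    | smul b x _ hx =>
      obtain ⟨b, rfl⟩ := residue_surjective b
      obtain ⟨p, rfl⟩ := Ideal.toCotangent_surjective _ x
      rw [show residue _ b • Ideal.toCotangent _ p = b • Ideal.toCotangent _ p from rfl, ← map_smul, hπ']
      rw [hπ'] at hx
      convert Submodule.smul_mem _ (cst b) hx using 1
      rw [← algebraMap_smul (W.presheaf.stalk w) (cst b) (Ideal.toCotangent (maximalIdeal (W.presheaf.stalk w)) _),
        ← map_smul, Ideal.toCotangent_eq, pow_two]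
      show π (b * p.1) - algebraMap k _ (cst b) * π p.1 ∈ _
      rw [halg, ← map_mul, ← map_sub, ← sub_mul, map_mul]
      exact Ideal.mul_mem_mul (map_nonunit π _ (hcst b)) (map_nonunit π _ p.2)

variable [IsAlgClosed k] [CharZero k]
  [LocallyOfFiniteType (X ↘ Spec (CommRingCat.of k))] [LocallyOfFiniteType (Y ↘ Spec (CommRingCat.of k))]

open IsLocalRing in
theorem dim_le_of_dense (f : X ⟶ Y) (hf : f ≫ (Y ↘ Spec (CommRingCat.of k)) = X ↘ Spec (CommRingCat.of k))
    {W : Scheme.{u}} [IsIntegral W] (ι : W ⟶ X) [IsClosedImmersion ι] (D : Set W) (hD : Dense D) (r : ℕ)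
    (hDr : ∀ w ∈ D, IsClosed ({ι w} : Set X) ∧
      ∃ T : Finset (CotangentSpace (X.presheaf.stalk (ι w))), T.card ≤ r ∧
        (LinearMap.range (FixPt.cotangentMapAt f (ι w) (f (ι w)) rfl) : Set (CotangentSpace (X.presheaf.stalk (ι w)))) ⊆
          (Submodule.span (ResidueField (X.presheaf.stalk (ι w))) (T : Set (CotangentSpace (X.presheaf.stalk (ι w)))) :
            Set (CotangentSpace (X.presheaf.stalk (ι w))))) :
    topologicalKrullDim (closure (Set.range (ι ≫ f))) ≤ r := by
  let C : Closeds Y := ⟨closure (Set.range (ι ≫ f)), isClosed_closure⟩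
  let j := (Scheme.IdealSheafData.vanishingIdeal C).subschemeι
  let Z := (Scheme.IdealSheafData.vanishingIdeal C).subscheme
  have hran : Set.range j = closure (Set.range (ι ≫ f)) := H23.RedSub.range_vanishingIdeal C
  let e : Z ≃ₜ closure (Set.range (ι ≫ f)) :=
    j.isClosedEmbedding.isEmbedding.toHomeomorph.trans (Homeomorph.setCongr hran)
  obtain ⟨g, hg⟩ := H23.RedSub.exists_lift_closed (ι ≫ f) j (by rw [hran]; exact subset_closure)
  haveI : IrreducibleSpace Z := by
    have h := (IrreducibleSpace.isIrreducible_univ W).image _ (ι ≫ f).continuous.continuousOn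
    rw [Set.image_univ] at h
    haveI : IrreducibleSpace (closure (Set.range (ι ≫ f))) := Subtype.irreducibleSpace h.closure
    exact e.symm.surjective.irreducibleSpace e.symm.continuous
  haveI : IsIntegral Z := isIntegral_of_irreducibleSpace_of_isReduced _
  letI : Z.Over (Spec (CommRingCat.of k)) := ⟨j ≫ Y ↘ Spec (CommRingCat.of k)⟩
  haveI : LocallyOfFiniteType (Z ↘ Spec (CommRingCat.of k)) :=
    inferInstanceAs (LocallyOfFiniteType (j ≫ Y ↘ Spec (CommRingCat.of k)))
  haveI : IsLocallyNoetherian Z := LocallyOfFiniteType.isLocallyNoetherian (Z ↘ Spec (CommRingCat.of k))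
  haveI : LocallyOfFiniteType g := by
    haveI : LocallyOfFiniteType (g ≫ (j ≫ Y ↘ Spec (CommRingCat.of k))) := by
      rw [← Category.assoc, hg, Category.assoc, hf]
      infer_instance
    exact locallyOfFiniteType_of_comp g (j ≫ Y ↘ Spec (CommRingCat.of k))
  haveI : LocallyOfFinitePresentation g := inferInstance
  have hgη : g (genericPoint W) = genericPoint Z := by
    refine IsGenericPoint.eq ?_ (genericPoint_spec Z)
    rw [IsGenericPoint, j.isClosedEmbedding.isEmbedding.isInducing.closure_eq_preimage_closure_image]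
    refine Set.eq_univ_of_forall fun z => ?_
    rw [Set.mem_preimage, Set.image_singleton]
    have h1 : j z ∈ closure (Set.range (ι ≫ f)) := hran ▸ ⟨z, rfl⟩
    refine closure_minimal ?_ isClosed_closure h1
    rintro _ ⟨w, rfl⟩
    rw [← Scheme.Hom.comp_apply, hg]
    exact specializes_iff_mem_closure.1 ((genericPoint_specializes w).map (ι ≫ f).continuous)
  haveI : CharZero Z.functionField :=
    charZero_of_injective_ringHom (f := Curv2.stalkMap k Z (genericPoint Z))
      (RingHom.injective (S := Z.functionField) (Curv2.stalkMap k Z (genericPoint Z)))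
  obtain ⟨w, hwU, hwD⟩ := hD.inter_open_nonempty g.smoothLocus g.smoothLocus.isOpen
    ⟨_, GenSmooth5.genericPoint_mem_smoothLocus g hgη⟩
  obtain ⟨hx, T, hTc, hT⟩ := hDr w hwD
  have hwc : IsClosed ({w} : Set W) := by
    rw [ι.isClosedEmbedding.isClosed_iff_image_isClosed]
    simpa using hx
  haveI : JacobsonSpace X := LocallyOfFiniteType.jacobsonSpace (X ↘ Spec (CommRingCat.of k))
  haveI : LocallyOfFiniteType (ι ≫ X ↘ Spec (CommRingCat.of k)) := inferInstance
  haveI : JacobsonSpace W := LocallyOfFiniteType.jacobsonSpace (ι ≫ X ↘ Spec (CommRingCat.of k))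
  haveI : JacobsonSpace Z := LocallyOfFiniteType.jacobsonSpace (Z ↘ Spec (CommRingCat.of k))
  have hzc : IsClosed ({g w} : Set Z) :=
    mem_closedPoints_iff.1 (g.closePoints_subset_preimage_closedPoints (mem_closedPoints_iff.2 hwc))
  letI algR : Algebra k (Z.presheaf.stalk (g w)) := (Curv2.stalkMap k Z (g w)).toAlgebra
  letI algS : Algebra k (W.presheaf.stalk w) :=
    ((ι.stalkMap w).hom.comp (Curv2.stalkMap k X (ι w))).toAlgebra
  letI algRS : Algebra (Z.presheaf.stalk (g w)) (W.presheaf.stalk w) := (g.stalkMap w).hom.toAlgebra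
  obtain ⟨T', hT'c, hT'⟩ := push f hf ι w (fun _ => rfl)
    (fun a => CurveSection.exists_stalkMap_sub_mem k hx a) T hT
  obtain ⟨hc, hcot⟩ := hT' (g ≫ j) hg
  haveI : IsScalarTower k (Z.presheaf.stalk (g w)) (W.presheaf.stalk w) := IsScalarTower.of_algebraMap_eq fun c => by
    rw [← hc c, Scheme.Hom.stalkMap_comp]
    exact congrArg (g.stalkMap w).hom (stalkMap_const j rfl (g w) c)
  haveI : IsLocalHom (algebraMap (Z.presheaf.stalk (g w)) (W.presheaf.stalk w)) :=
    inferInstanceAs (IsLocalHom (g.stalkMap w).hom)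
  haveI : Algebra.FormallySmooth (Z.presheaf.stalk (g w)) (W.presheaf.stalk w) :=
    Scheme.Hom.mem_smoothLocus.1 hwU
  haveI : IrreducibleSpace Z := inferInstance
  rw [← IsHomeomorph.topologicalKrullDim_eq e e.isHomeomorph,
    ← SmoothReg.ringKrullDim_stalk_closedPoint (Z ↘ Spec (CommRingCat.of k)) hzc]
  refine ringKrullDim_le_of_formallySmooth (k := k) (S := W.presheaf.stalk w) (fun a => CurveSection.exists_stalkMap_sub_mem k hzc a)
    (fun a => ?_) T' r (hT'c.trans hTc) fun m hm => ?_
  · obtain ⟨a, rfl⟩ := ι.stalkMap_surjective w a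
    obtain ⟨c, hc'⟩ := CurveSection.exists_stalkMap_sub_mem k hx a
    refine ⟨c, ?_⟩
    show (ι.stalkMap w).hom a - (ι.stalkMap w).hom _ ∈ _
    rw [← map_sub]
    exact map_nonunit _ _ hc'
  · obtain ⟨a, rfl⟩ := j.stalkMap_surjective (g w) m
    have ha : a ∈ maximalIdeal (Y.presheaf.stalk (j (g w))) := fun hu => hm (hu.map _)
    have h1 : (g.stalkMap w).hom ((j.stalkMap (g w)).hom a) = ((g ≫ j).stalkMap w).hom a := by
      rw [Scheme.Hom.stalkMap_comp]
      rfl
    have h2 : ((g ≫ j).stalkMap w).hom a ∈ maximalIdeal (W.presheaf.stalk w) :=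
      h1 ▸ map_nonunit _ _ (map_nonunit _ _ ha)
    convert hcot a ha h2
    exact h1

end Groth.Agent.TangentRank5
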